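import Groth.Agent.ResProp.EF.K743.Iface2
import Mathlib.RingTheory.TensorProduct.Basic
import Mathlib.RingTheory.Ideal.Quotient.Operations
import Mathlib.Algebra.MvPolynomial.Eval

/-! # Node F1 (StmtLRing): the ring `L = Γ_x ⊗ O(GL_r₁ × GL_r₂)` -/

set_option autoImplicit false

universe u

open Groth.Agent.Grpsch.AffGrpd
open scoped TensorProduct

namespace Groth.Agent.ResProp.EF.K803

section Mats

variable (B : Type u) [CommRing B] (r₁ r₂ : ℕ)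

/-- variables: two matrices and their inverses -/
abbrev Idx : Type := ((Fin r₁ × Fin r₁) ⊕ (Fin r₁ × Fin r₁)) ⊕ ((Fin r₂ × Fin r₂) ⊕ (Fin r₂ × Fin r₂))

abbrev Pol := MvPolynomial (Idx r₁ r₂) B

noncomputable def X₁ : Matrix (Fin r₁) (Fin r₁) (Pol B r₁ r₂) :=
  Matrix.of fun i j => MvPolynomial.X (Sum.inl (Sum.inl (i, j)))
noncomputable def Y₁ : Matrix (Fin r₁) (Fin r₁) (Pol B r₁ r₂) :=
  Matrix.of fun i j => MvPolynomial.X (Sum.inl (Sum.inr (i, j)))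
noncomputable def X₂ : Matrix (Fin r₂) (Fin r₂) (Pol B r₁ r₂) :=
  Matrix.of fun i j => MvPolynomial.X (Sum.inr (Sum.inl (i, j)))
noncomputable def Y₂ : Matrix (Fin r₂) (Fin r₂) (Pol B r₁ r₂) :=
  Matrix.of fun i j => MvPolynomial.X (Sum.inr (Sum.inr (i, j)))

noncomputable def rels : Ideal (Pol B r₁ r₂) :=
  Ideal.span (Set.range (fun p : Fin r₁ × Fin r₁ => (X₁ B r₁ r₂ * Y₁ B r₁ r₂ - 1) p.1 p.2) ∪
    Set.range (fun p : Fin r₁ × Fin r₁ => (Y₁ B r₁ r₂ * X₁ B r₁ r₂ - 1) p.1 p.2) ∪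
    Set.range (fun p : Fin r₂ × Fin r₂ => (X₂ B r₁ r₂ * Y₂ B r₁ r₂ - 1) p.1 p.2) ∪
    Set.range (fun p : Fin r₂ × Fin r₂ => (Y₂ B r₁ r₂ * X₂ B r₁ r₂ - 1) p.1 p.2))

abbrev LL := Pol B r₁ r₂ ⧸ rels B r₁ r₂

variable {B r₁ r₂}

theorem map_eq_one {n : Type} [Fintype n] [DecidableEq n] {P Q : Type u} [CommRing P] [CommRing Q] (f : P →+* Q)
    (M N : Matrix n n P) (h : ∀ i j, f ((M * N - 1) i j) = 0) : M.map f * N.map f = 1 := by
  rw [← Matrix.map_mul]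
  ext i j
  have := h i j
  rw [Matrix.sub_apply, map_sub, sub_eq_zero] at this
  rw [Matrix.map_apply, this]
  by_cases hij : i = j
  · subst hij; simp
  · simp [Matrix.one_apply_ne hij]

noncomputable def g₁ : GL (Fin r₁) (LL B r₁ r₂) where
  val := (X₁ B r₁ r₂).map (Ideal.Quotient.mk _)
  inv := (Y₁ B r₁ r₂).map (Ideal.Quotient.mk _)
  val_inv := map_eq_one _ _ _ fun i j => Ideal.Quotient.eq_zero_iff_mem.2
    (Ideal.subset_span (Or.inl (Or.inl (Or.inl ⟨(i, j), rfl⟩))))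
  inv_val := map_eq_one _ _ _ fun i j => Ideal.Quotient.eq_zero_iff_mem.2
    (Ideal.subset_span (Or.inl (Or.inl (Or.inr ⟨(i, j), rfl⟩))))

noncomputable def g₂ : GL (Fin r₂) (LL B r₁ r₂) where
  val := (X₂ B r₁ r₂).map (Ideal.Quotient.mk _)
  inv := (Y₂ B r₁ r₂).map (Ideal.Quotient.mk _)
  val_inv := map_eq_one _ _ _ fun i j => Ideal.Quotient.eq_zero_iff_mem.2
    (Ideal.subset_span (Or.inl (Or.inr ⟨(i, j), rfl⟩)))
  inv_val := map_eq_one _ _ _ fun i j => Ideal.Quotient.eq_zero_iff_mem.2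
    (Ideal.subset_span (Or.inr ⟨(i, j), rfl⟩))

variable {T : Type u} [CommRing T] (b : B →+* T) (a₁ : GL (Fin r₁) T) (a₂ : GL (Fin r₂) T)

noncomputable def pev : Pol B r₁ r₂ →+* T := MvPolynomial.eval₂Hom b
  (Sum.elim (Sum.elim (fun p => a₁.1 p.1 p.2) (fun p => (a₁⁻¹).1 p.1 p.2))
    (Sum.elim (fun p => a₂.1 p.1 p.2) (fun p => (a₂⁻¹).1 p.1 p.2)))

theorem map_sub_one {n : Type} [Fintype n] [DecidableEq n] {P Q : Type u} [CommRing P] [CommRing Q] (f : P →+* Q)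
    (M N : Matrix n n P) (h : M.map f * N.map f = 1) (i j : n) : f ((M * N - 1) i j) = 0 := by
  rw [← Matrix.map_mul] at h
  have := congrFun (congrFun h i) j
  rw [Matrix.map_apply] at this
  rw [Matrix.sub_apply, map_sub, this]
  by_cases hij : i = j
  · subst hij; simp
  · simp [Matrix.one_apply_ne hij]

theorem pev_X₁ : (X₁ B r₁ r₂).map (pev b a₁ a₂) = a₁.1 := by ext i j; simp [X₁, pev]
theorem pev_Y₁ : (Y₁ B r₁ r₂).map (pev b a₁ a₂) = (a₁⁻¹).1 := by ext i j; simp [Y₁, pev]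
theorem pev_X₂ : (X₂ B r₁ r₂).map (pev b a₁ a₂) = a₂.1 := by ext i j; simp [X₂, pev]
theorem pev_Y₂ : (Y₂ B r₁ r₂).map (pev b a₁ a₂) = (a₂⁻¹).1 := by ext i j; simp [Y₂, pev]

noncomputable def lft : LL B r₁ r₂ →+* T := Ideal.Quotient.lift _ (pev b a₁ a₂) (by
  have h : rels B r₁ r₂ ≤ RingHom.ker (pev b a₁ a₂) := by
    rw [rels, Ideal.span_le]
    rintro z (((⟨⟨i, j⟩, rfl⟩ | ⟨⟨i, j⟩, rfl⟩) | ⟨⟨i, j⟩, rfl⟩) | ⟨⟨i, j⟩, rfl⟩)
    · exact map_sub_one _ _ _ (by rw [pev_X₁, pev_Y₁]; exact a₁.mul_inv) i j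
    · exact map_sub_one _ _ _ (by rw [pev_X₁, pev_Y₁]; exact a₁.inv_mul) i j
    · exact map_sub_one _ _ _ (by rw [pev_X₂, pev_Y₂]; exact a₂.mul_inv) i j
    · exact map_sub_one _ _ _ (by rw [pev_X₂, pev_Y₂]; exact a₂.inv_mul) i j
  exact fun z hz => h hz)

theorem lft_mk (z : Pol B r₁ r₂) : lft b a₁ a₂ (Ideal.Quotient.mk _ z) = pev b a₁ a₂ z := rfl

noncomputable def str : B →+* LL B r₁ r₂ := (Ideal.Quotient.mk _).comp MvPolynomial.C

theorem lft_str : (lft b a₁ a₂).comp str = b := by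
  ext z
  simp [str, lft_mk, pev]

theorem lft_g₁ (i j : Fin r₁) : lft b a₁ a₂ ((g₁ (B := B) (r₂ := r₂)).1 i j) = a₁.1 i j := by
  change lft b a₁ a₂ (Ideal.Quotient.mk _ (X₁ B r₁ r₂ i j)) = _
  rw [lft_mk]
  simp [X₁, pev]

theorem lft_g₂ (i j : Fin r₂) : lft b a₁ a₂ ((g₂ (B := B) (r₁ := r₁)).1 i j) = a₂.1 i j := by
  change lft b a₁ a₂ (Ideal.Quotient.mk _ (X₂ B r₁ r₂ i j)) = _
  rw [lft_mk]
  simp [X₂, pev]

theorem inv_eq {n : ℕ} {P Q : Type u} [CommRing P] [CommRing Q] (φ ψ : P →+* Q) (g : GL (Fin n) P)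
    (h : ∀ i j, φ (g.1 i j) = ψ (g.1 i j)) (i j : Fin n) : φ ((g⁻¹).1 i j) = ψ ((g⁻¹).1 i j) := by
  have e : Matrix.GeneralLinearGroup.map φ g = Matrix.GeneralLinearGroup.map ψ g := by
    apply Units.ext
    ext i j
    exact h i j
  have e' := congrArg (fun z => (z⁻¹).1 i j) e
  simp only [← map_inv] at e'
  exact e'

theorem LL_ext (φ ψ : LL B r₁ r₂ →+* T) (h : φ.comp str = ψ.comp str)
    (h₁ : ∀ i j, φ ((g₁ (B := B) (r₂ := r₂)).1 i j) = ψ (g₁.1 i j))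
    (h₂ : ∀ i j, φ ((g₂ (B := B) (r₁ := r₁)).1 i j) = ψ (g₂.1 i j)) : φ = ψ := by
  apply Ideal.Quotient.ringHom_ext
  apply MvPolynomial.ringHom_ext
  · intro z
    exact DFunLike.congr_fun h z
  · rintro ((⟨i, j⟩ | ⟨i, j⟩) | (⟨i, j⟩ | ⟨i, j⟩))
    · exact h₁ i j
    · exact inv_eq φ ψ g₁ h₁ i j
    · exact h₂ i j
    · exact inv_eq φ ψ g₂ h₂ i j

end Mats

section Tens

variable {A Γ : Type u} [CommRing A] [CommRing Γ] (G : RGrpd A Γ) {K : Type u} [Field K] (x : A →+* K)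

/-- `Γ_x` with its universal property -/
theorem exists_tens : ∃ (B : Type u) (_ : CommRing B) (y : K →+* B) (γ : Γ →+* B), γ.comp G.s = y.comp x ∧
    (∀ {T : Type u} [CommRing T] (y' : K →+* T) (γ' : Γ →+* T), γ'.comp G.s = y'.comp x →
      ∃ f : B →+* T, f.comp y = y' ∧ f.comp γ = γ') ∧
    (∀ {T : Type u} [CommRing T] (φ ψ : B →+* T), φ.comp y = ψ.comp y → φ.comp γ = ψ.comp γ → φ = ψ) := by
  letI : Algebra A K := x.toAlgebra
  letI : Algebra A Γ := G.s.toAlgebra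
  refine ⟨K ⊗[A] Γ, inferInstance, (Algebra.TensorProduct.includeLeft : K →ₐ[A] K ⊗[A] Γ).toRingHom,
    (Algebra.TensorProduct.includeRight : Γ →ₐ[A] K ⊗[A] Γ).toRingHom, ?_, ?_, ?_⟩
  · ext a
    have h1 := (Algebra.TensorProduct.includeLeft : K →ₐ[A] K ⊗[A] Γ).commutes a
    have h2 := (Algebra.TensorProduct.includeRight : Γ →ₐ[A] K ⊗[A] Γ).commutes a
    exact h2.trans h1.symm
  · intro T _ y' γ' h
    letI : Algebra A T := (y'.comp x).toAlgebra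
    let f : K →ₐ[A] T := { y' with commutes' := fun a => rfl }
    let g : Γ →ₐ[A] T := { γ' with commutes' := fun a => DFunLike.congr_fun h a }
    refine ⟨(Algebra.TensorProduct.productMap f g).toRingHom, ?_, ?_⟩
    · ext a
      exact Algebra.TensorProduct.productMap_left_apply f g a
    · ext a
      exact Algebra.TensorProduct.productMap_right_apply f g a
  · intro T _ φ ψ h1 h2
    apply RingHom.ext
    intro z
    induction z using TensorProduct.induction_on with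
    | zero => simp
    | tmul a b =>
      have e : a ⊗ₜ[A] b = (a ⊗ₜ[A] (1 : Γ)) * ((1 : K) ⊗ₜ[A] b) := by simp
      rw [e, map_mul, map_mul]
      exact congrArg₂ (· * ·) (DFunLike.congr_fun h1 a) (DFunLike.congr_fun h2 b)
    | add a b ha hb => rw [map_add, map_add, ha, hb]

end Tens

open K743 in
theorem stmtLRing : K743.StmtLRing.{u} := by
  intro A Γ _ _ G K _ x r₁ r₂
  obtain ⟨B, _, y, γ, hγ, hl, he⟩ := exists_tens G x
  choose f hf1 hf2 using @hl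
  exact ⟨{
    L := LL B r₁ r₂
    y := str.comp y
    γ := str.comp γ
    hγ := by rw [RingHom.comp_assoc, hγ, RingHom.comp_assoc]
    l₁ := g₁
    l₂ := g₂
    lift := fun y' γ' h a₁ a₂ => lft (f y' γ' h) a₁ a₂
    lift_y := fun y' γ' h a₁ a₂ => by rw [← RingHom.comp_assoc, lft_str, hf1]
    lift_γ := fun y' γ' h a₁ a₂ => by rw [← RingHom.comp_assoc, lft_str, hf2]
    lift_l₁ := fun y' γ' h a₁ a₂ i j => lft_g₁ _ _ _ i j
    lift_l₂ := fun y' γ' h a₁ a₂ i j => lft_g₂ _ _ _ i j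
    ext := fun φ ψ h1 h2 h3 h4 => LL_ext φ ψ (he _ _ (by rw [RingHom.comp_assoc, RingHom.comp_assoc, h1])
      (by rw [RingHom.comp_assoc, RingHom.comp_assoc, h2])) h3 h4 }⟩

end Groth.Agent.ResProp.EF.K803
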